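import Groth.Agent.QCohTower.Triangle
import Groth.Agent.SiteCohomology.ModulesRLim
import Groth.Agent.SiteCohomology.SchemeModules
import Groth.Agent.CohTwo.QCohExt
import Groth.Agent.S14023

/-!
Limits of towers of quasi-coherent modules with surjective transition maps.
-/

set_option autoImplicit false
set_option linter.style.haveILetI false

universe w v u

set_option backward.isDefEq.respectTransparency false

open CategoryTheory CategoryTheory.Limits Opposite AlgebraicGeometry

namespace Groth.Agent.QCohTower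

open Groth.SiteCohomology Groth.SiteCohomology.ModulesRLim Groth.Agent.TowerLimOne Groth.DAlg Groth.LocCohZBase.ExtDerived

section Build

variable {A : Type u} [Category.{v} A] [Abelian A] [EnoughInjectives A] [HasLimitsOfShape ℕᵒᵖ A]
variable {E : ℕᵒᵖ ⥤ A} (I : InjectiveResolution E)

instance : (lim : (ℕᵒᵖ ⥤ A) ⥤ A).Additive :=
  Functor.additive_of_preserves_binary_products _

omit [EnoughInjectives A] in
lemma injective_limit_X (i : ℕ) : Injective (limit (I.cocomplex.X i)) := by
  haveI := I.injective i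
  haveI : (Functor.const ℕᵒᵖ : A ⥤ ℕᵒᵖ ⥤ A).PreservesMonomorphisms :=
    ⟨fun {P Q} f hf => @NatTrans.mono_of_mono_app _ _ _ _ _ _ _ fun _ => hf⟩
  exact Injective.injective_of_adjoint constLimAdj (I.cocomplex.X i)

omit [EnoughInjectives A] [HasLimitsOfShape ℕᵒᵖ A] in
lemma isResolution_eval (n : ℕ) :
    AcyclicRes.IsResolution
      (((((evaluation ℕᵒᵖ A).obj (op n)).mapHomologicalComplex _).obj I.cocomplex).X)
      (fun i => ((((evaluation ℕᵒᵖ A).obj (op n)).mapHomologicalComplex _).obj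
        I.cocomplex).d i (i + 1))
      ((I.ι.f 0).app (op n) : E.obj (op n) ⟶ (I.cocomplex.X 0).obj (op n)) := by
  let ev := (evaluation ℕᵒᵖ A).obj (op n)
  have hz : (I.ι.f 0 : E ⟶ I.cocomplex.X 0) ≫ I.cocomplex.d 0 1 = 0 := I.ι_f_zero_comp_complex_d
  haveI : Mono (I.ι.f 0 : E ⟶ I.cocomplex.X 0) := inferInstanceAs (Mono (I.ι.f 0))
  exact
    { mono := inferInstanceAs (Mono (ev.map (I.ι.f 0 : E ⟶ I.cocomplex.X 0)))
      zero₀ := congr_app hz (op n)
      exact₀ := I.exact₀.map ev
      zero := fun m => congr_app (I.cocomplex.d_comp_d _ _ _) (op n)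
      exact := fun m => (I.exact_succ m).map ev }

/-- The tower of levels of a resolution. -/
noncomputable def resTower :
    ResTower (fun n => E.obj (op n)) (fun n => E.map (homOfLE (Nat.le_succ n)).op) where
  L n := (((evaluation ℕᵒᵖ A).obj (op n)).mapHomologicalComplex _).obj I.cocomplex
  t n :=
    { f := fun i => (I.cocomplex.X i).map (homOfLE (Nat.le_succ n)).op
      comm' := fun i j _ => (I.cocomplex.d i j).naturality (homOfLE (Nat.le_succ n)).op }
  ι n := (I.ι.f 0).app (op n)
  res n := isResolution_eval I n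
  inj n i :=
    haveI := I.injective i
    ModulesRLim.injective_obj (I.cocomplex.X i) (op n)
  comm n := ((I.ι.f 0 : E ⟶ I.cocomplex.X 0).naturality (homOfLE (Nat.le_succ n)).op).symm
  split n i :=
    haveI := I.injective i
    exists_section_map (I.cocomplex.X i) (homOfLE (Nat.le_succ n)).op
  M := ((lim : (ℕᵒᵖ ⥤ A) ⥤ A).mapHomologicalComplex _).obj I.cocomplex
  π n :=
    { f := fun i => limit.π (I.cocomplex.X i) (op n)
      comm' := fun i j _ => (limMap_π (I.cocomplex.d i j) (op n)).symm }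
  comp n := by
    ext i : 1
    exact limit.w (I.cocomplex.X i) (homOfLE (Nat.le_succ n)).op
  ext P i x hx := limit.hom_ext fun k => by
    obtain ⟨n⟩ := k
    exact (hx n).trans zero_comp.symm
  lift P i s hs := by
    let c : Cone (I.cocomplex.X i) :=
      { pt := P
        π :=
          { app := fun k => s k.unop
            naturality := fun a b φ => (Category.id_comp _).trans (by
              rw [Subsingleton.elim φ (homOfLE φ.unop.le).op]
              exact (map_compatible (F := I.cocomplex.X i ⋙ homF P) s hs φ.unop.le).symm) } }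
    exact ⟨limit.lift _ c, fun n => limit.lift_π c (op n)⟩

omit [EnoughInjectives A] in
lemma mono_limMap_ι : Mono ((lim : (ℕᵒᵖ ⥤ A) ⥤ A).map (I.ι.f 0 : E ⟶ I.cocomplex.X 0)) :=
  @Functor.map_mono _ _ _ _ (lim : (ℕᵒᵖ ⥤ A) ⥤ A) inferInstance
    (I.cocomplex.X 0) E (I.ι.f 0) (inferInstanceAs (Mono (I.ι.f 0)))

omit [EnoughInjectives A] in
/-- A resolution of the limit, given exactness in positive degrees. -/
lemma isResolution_lim
    (h : ∀ m, (ShortComplex.mk (limMap (I.cocomplex.d m (m + 1))) (limMap (I.cocomplex.d (m + 1) (m + 2)))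
      ((((lim : (ℕᵒᵖ ⥤ A) ⥤ A).mapHomologicalComplex _).obj I.cocomplex).d_comp_d m (m + 1) (m + 2))).Exact) :
    AcyclicRes.IsResolution (((lim : (ℕᵒᵖ ⥤ A) ⥤ A).mapHomologicalComplex _).obj I.cocomplex).X
      (fun i => (((lim : (ℕᵒᵖ ⥤ A) ⥤ A).mapHomologicalComplex _).obj I.cocomplex).d i (i + 1))
      ((lim : (ℕᵒᵖ ⥤ A) ⥤ A).map (I.ι.f 0 : E ⟶ I.cocomplex.X 0)) :=
  { mono := mono_limMap_ι I
    zero₀ := (Functor.map_comp _ _ _).symm.trans
      ((congrArg _ I.ι_f_zero_comp_complex_d).trans (Functor.map_zero _ _ _))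
    exact₀ := I.exact₀.map_of_mono_of_preservesKernel (lim : (ℕᵒᵖ ⥤ A) ⥤ A)
      (inferInstanceAs (Mono (I.ι.f 0))) inferInstance
    zero := fun m => (((lim : (ℕᵒᵖ ⥤ A) ⥤ A).mapHomologicalComplex _).obj I.cocomplex).d_comp_d _ _ _
    exact := h }

end Build

section Scheme

variable {X : Scheme.{u}}

instance hasLimitsOfShape_nat : HasLimitsOfShape ℕᵒᵖ X.Modules :=
  inferInstanceAs (HasLimitsOfShape ℕᵒᵖ (SheafOfModules.{u} X.ringCatSheaf))

/-- Towers whose levels are quasi-coherent with surjective transition maps from level one on. -/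
structure Hyp (E : ℕᵒᵖ ⥤ X.Modules) : Prop where
  qcoh : ∀ n, (E.obj (op n)).IsQuasicoherent
  epi : ∀ n, 1 ≤ n → Epi (E.map (homOfLE (Nat.le_succ n)).op)

variable {E : ℕᵒᵖ ⥤ X.Modules}

lemma Hyp.van (h : Hyp E) {U : X.Opens} (hU : IsAffineOpen U) (n i : ℕ) (hi : 1 ≤ i) :
    Subsingleton (CohTop.HU ((SheafOfModules.toSheaf X.ringCatSheaf).obj (E.obj (op n))) i U) := by
  obtain ⟨i, rfl⟩ := Nat.exists_eq_add_of_le' hi
  haveI := h.qcoh n
  exact Groth.CohBase.hVanish_of_isAffineOpen (E.obj (op n)) hU i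

lemma Hyp.surj (h : Hyp E) {U : X.Opens} (hU : IsAffineOpen U) (n : ℕ) (hn : 1 ≤ n) :
    Function.Surjective ((sec X.ringCatSheaf U).map (E.map (homOfLE (Nat.le_succ n)).op)) := by
  haveI := h.qcoh n
  haveI := h.qcoh (n + 1)
  haveI := h.epi n hn
  let S : ShortComplex X.Modules := ShortComplex.mk (kernel.ι (E.map (homOfLE (Nat.le_succ n)).op))
    (E.map (homOfLE (Nat.le_succ n)).op) (kernel.condition _)
  have hS : S.ShortExact :=
    { exact := ShortComplex.exact_kernel _ }
  haveI : S.X₁.IsQuasicoherent := Groth.QCohMod.isQCoh_kernel _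
  exact fun t => Groth.CohTwo.QCohExt.surjective_app hS hU t

lemma Hyp.ml (h : Hyp E) {U : X.Opens} (hU : IsAffineOpen U) :
    MittagLeffler.ML.{0, u} (E ⋙ sec X.ringCatSheaf U) := by
  have hs : ∀ a b : ℕ, 1 ≤ a → (hab : a ≤ b) →
      Function.Surjective (MittagLeffler.r (E ⋙ sec X.ringCatSheaf U) hab) := by
    intro a b ha hab
    induction b, hab using Nat.le_induction with
    | base => exact fun x => ⟨x, MittagLeffler.r_self _ _ x⟩
    | succ b hab ih =>
      intro x
      obtain ⟨y, hy⟩ := ih x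
      obtain ⟨z, hz⟩ := h.surj hU b (ha.trans hab) y
      refine ⟨z, ?_⟩
      rw [← MittagLeffler.r_r (E ⋙ sec X.ringCatSheaf U) hab b.le_succ, ← hy]
      exact congrArg _ hz
  refine fun i => ⟨max i 1, le_max_left _ _, fun k hk x => ?_⟩
  obtain ⟨y, hy⟩ := hs (max i 1) (max k (max i 1)) (le_max_right _ _) (le_max_right _ _) x
  refine ⟨MittagLeffler.r _ (le_max_left _ _) y, ?_⟩
  rw [← hy, MittagLeffler.r_r, MittagLeffler.r_r]

variable (I : InjectiveResolution E)

lemma exact_lim (h : Hyp E) (m : ℕ) :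
    (ShortComplex.mk (limMap (I.cocomplex.d m (m + 1))) (limMap (I.cocomplex.d (m + 1) (m + 2)))
      ((((lim : (ℕᵒᵖ ⥤ X.Modules) ⥤ X.Modules).mapHomologicalComplex _).obj I.cocomplex).d_comp_d
        m (m + 1) (m + 2))).Exact := by
  haveI : (SheafOfModules.toSheaf.{u} X.ringCatSheaf).PreservesZeroMorphisms := ⟨fun _ _ => rfl⟩
  refine (ShortComplex.exact_map_iff_of_faithful _ (SheafOfModules.toSheaf.{u} X.ringCatSheaf)).1 ?_
  exact exact_of_basis _ _ X.isBasis_affineOpens fun V hV y hy =>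
    exists_preimage_lim I V m (fun n i hi => h.van hV n i hi) (Or.inr (h.ml hV)) y hy

include I in
theorem subsingleton_HU_limit (h : Hyp E) {U : X.Opens} (hU : IsAffineOpen U) (p : ℕ) :
    Subsingleton (CohTop.HU ((SheafOfModules.toSheaf X.ringCatSheaf).obj (limit E)) (p + 1) U) := by
  let T := SheafOfModules.toSheaf.{u} X.ringCatSheaf
  haveI : T.PreservesZeroMorphisms := ⟨fun _ _ => rfl⟩
  haveI : PreservesFiniteLimits T := inferInstanceAs (PreservesFiniteLimits (Groth.CohBase.toAbF X))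
  haveI : PreservesFiniteColimits T := inferInstanceAs (PreservesFiniteColimits (Groth.CohBase.toAbF X))
  let J := Opens.grothendieckTopology X
  let M := ((lim : (ℕᵒᵖ ⥤ X.Modules) ⥤ X.Modules).mapHomologicalComplex _).obj I.cocomplex
  have hM := isResolution_lim I (exact_lim I h)
  haveI := hM.mono
  obtain ⟨ψ, hψs, hψ⟩ := AcyclicRes.exists_cocyclesToExt (CohCx.freeSheaf J U) (p + 1)
    (fun m => T.obj (M.X m)) (fun m => T.map (M.d m (m + 1))) (T.map ((lim : (ℕᵒᵖ ⥤ X.Modules) ⥤ X.Modules).map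
      (I.ι.f 0 : E ⟶ I.cocomplex.X 0)))
    { mono := inferInstance
      zero₀ := (T.map_comp _ _).symm.trans ((congrArg T.map hM.zero₀).trans (T.map_zero _ _))
      exact₀ := hM.exact₀.map T
      zero := fun m => (T.map_comp _ _).symm.trans ((congrArg T.map (hM.zero m)).trans (T.map_zero _ _))
      exact := fun m => (hM.exact m).map T }
    fun m q _ => by
      haveI : Injective (M.X m) := injective_limit_X I m
      haveI := isFlasque_toSheaf_of_injective (M.X m)
      exact subsingleton_HU_succ_of_flasque (T.obj (M.X m)) U q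
  have hz : ∀ z, ψ z = 0 := fun z => by
    refine (hψ z).2 ((AcyclicRes.mem_cobound_succ (CohCx.freeSheaf J U) _ _).2 ?_)
    obtain ⟨b, hb⟩ := exists_preimage_lim I U p (fun n i hi => h.van hU n i hi) (Or.inr (h.ml hU))
      (CohFree.evalGen J U _ z.1) (by
        refine (evalGen_comp (J := J) (U := U) z.1 (T.map (M.d (p + 1) (p + 1 + 1)))).symm.trans ?_
        exact (congrArg (CohFree.evalGen J U _) z.2).trans (map_zero (CohFree.homEquivSect J U _)))
    refine ⟨CohFree.ofSect J U _ b, ?_⟩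
    refine (ofSect_comp b (T.map (M.d p (p + 1)))).trans ?_
    exact (congrArg (CohFree.ofSect J U _) hb).trans (CohFree.ofSect_evalGen J U _ z.1)
  exact ⟨fun a b => by
    obtain ⟨a, rfl⟩ := hψs a
    obtain ⟨b, rfl⟩ := hψs b
    rw [hz, hz]⟩

end Scheme

end Groth.Agent.QCohTower
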