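import Groth.Agent.TowerLimOne.Generic
import Groth.Agent.CohDerRlim.ProductD
import Groth.Prelude.Def_DCoh2
import Mathlib.CategoryTheory.Abelian.Injective.Extend
import Mathlib.Algebra.Homology.HomotopyCategory.KInjective

/-!
The termwise limit of a tower of injective resolutions with split transition maps is a derived limit.
-/

set_option autoImplicit false
set_option linter.style.haveILetI false

universe w v u

open CategoryTheory CategoryTheory.Limits Opposite HomologicalComplex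

namespace Groth.Agent.QCohTower

open Groth.SiteCohomology Groth.Agent.TowerLimOne Groth.CohDerRlim

variable {C : Type u} [Category.{v} C] [Abelian C]

local notation "e₀" => ComplexShape.embeddingUpNat

section Transport

variable {T : Type*} [Category T] [Preadditive T] [HasZeroObject T] [HasShift T ℤ]
  [∀ n : ℤ, (shiftFunctor T n).Additive] [Pretriangulated T]

/-- A derived limit from a distinguished triangle on an isomorphic tower. -/
theorem isRlim_of_triangle {K K' : ℕ → T} (e : ∀ n, K n ≅ K' n) (t : ∀ n, K (n + 1) ⟶ K n)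
    (t' : ∀ n, K' (n + 1) ⟶ K' n) (he : ∀ n, t n ≫ (e n).hom = (e (n + 1)).hom ≫ t' n)
    [HasProduct K] (c : Fan K') (hc : IsLimit c) {L L' : T} (u : L ≅ L') (a : L' ⟶ c.pt)
    (b : c.pt ⟶ c.pt) (d : c.pt ⟶ L'⟦(1 : ℤ)⟧)
    (hT : Pretriangulated.Triangle.mk a b d ∈ Pretriangulated.distinguishedTriangles)
    (hb : ∀ n, b ≫ c.proj n = c.proj n - c.proj (n + 1) ≫ t' n) : DCoh.IsRlim K t L := by
  have h1 : ∀ n, hc.lift (Fan.mk (∏ᶜ K) fun n => Pi.π K n ≫ (e n).hom) ≫ c.proj n =
      Pi.π K n ≫ (e n).hom := fun n => hc.fac _ ⟨n⟩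
  let Φ : c.pt ≅ ∏ᶜ K :=
    { hom := Pi.lift fun n => c.proj n ≫ (e n).inv
      inv := hc.lift (Fan.mk (∏ᶜ K) fun n => Pi.π K n ≫ (e n).hom)
      hom_inv_id := Fan.IsLimit.hom_ext hc _ _ fun n => by
        rw [Category.assoc, h1, ← Category.assoc, Pi.lift_π, Category.assoc, Iso.inv_hom_id,
          Category.comp_id, Category.id_comp]
      inv_hom_id := Pi.hom_ext _ _ fun n => by
        rw [Category.assoc, Pi.lift_π, ← Category.assoc, h1, Category.assoc, Iso.hom_inv_id,
          Category.comp_id, Category.id_comp] }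
  refine ⟨u.hom ≫ a ≫ Φ.hom, Φ.inv ≫ d ≫ u.inv⟦(1 : ℤ)⟧',
    Pretriangulated.isomorphic_distinguished _ hT _
      (Pretriangulated.Triangle.isoMk _ _ u Φ.symm Φ.symm ?_ ?_ ?_)⟩
  · change (u.hom ≫ a ≫ Φ.hom) ≫ Φ.inv = u.hom ≫ a
    rw [Category.assoc, Category.assoc, Iso.hom_inv_id, Category.comp_id]
  · change Pi.lift _ ≫ Φ.inv = Φ.inv ≫ b
    refine Fan.IsLimit.hom_ext hc _ _ fun n => ?_
    rw [Category.assoc, Category.assoc, hb, Preadditive.comp_sub, ← Category.assoc Φ.inv, h1,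
      ← Category.assoc (Pi.lift _), Pi.lift_π, h1, Preadditive.sub_comp, Category.assoc,
      he, Category.assoc]
  · change (Φ.inv ≫ d ≫ (shiftFunctor T (1 : ℤ)).map u.inv) ≫ (shiftFunctor T (1 : ℤ)).map u.hom =
      Φ.inv ≫ d
    rw [Category.assoc, Category.assoc, ← Functor.map_comp, u.inv_hom_id,
      CategoryTheory.Functor.map_id]
    simp

end Transport

section Tower

variable {F : ℕ → C} {f : ∀ n, F (n + 1) ⟶ F n} (D : ResTower F f) {Y : C}
  {ιM : Y ⟶ D.M.X 0} (hM : AcyclicRes.IsResolution D.M.X (fun i => D.M.d i (i + 1)) ιM)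
  (hMi : ∀ i, Injective (D.M.X i)) (p : ∀ n, Y ⟶ F n) (hp : ∀ n, ιM ≫ (D.π n).f 0 = p n ≫ D.ι n)

/-- The levels, indexed by the integers. -/
noncomputable abbrev J (n : ℕ) : CochainComplex C ℤ := (D.L n).extend e₀

/-- The transition maps. -/
noncomputable abbrev tJ (n : ℕ) : J D (n + 1) ⟶ J D n := extendMap (D.t n) e₀

/-- The limit, indexed by the integers. -/
noncomputable abbrev MJ : CochainComplex C ℤ := D.M.extend e₀

/-- The projections. -/
noncomputable abbrev πJ (n : ℕ) : MJ D ⟶ J D n := extendMap (D.π n) e₀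

lemma split_J (n : ℕ) (j : ℤ) : ∃ s, s ≫ (tJ D n).f j = 𝟙 ((J D n).X j) := by
  by_cases hj : ∃ i, (e₀).f i = j
  · obtain ⟨i, hi⟩ := hj
    obtain ⟨s, hs⟩ := D.split n i
    refine ⟨((D.L n).extendXIso e₀ hi).hom ≫ s ≫ ((D.L (n + 1)).extendXIso e₀ hi).inv, ?_⟩
    rw [extendMap_f (D.t n) e₀ hi]
    simp only [Category.assoc, Iso.inv_hom_id_assoc]
    rw [reassoc_of% hs]
    simp
  · exact ⟨0, ((D.L n).isZero_extend_X e₀ j (not_exists.1 hj)).eq_of_src _ _⟩

lemma ext_J (P : C) (j : ℤ) (x : P ⟶ (MJ D).X j) (hx : ∀ n, x ≫ (πJ D n).f j = 0) : x = 0 := by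
  by_cases hj : ∃ i, (e₀).f i = j
  · obtain ⟨i, hi⟩ := hj
    rw [← cancel_mono (D.M.extendXIso e₀ hi).hom, zero_comp]
    refine D.ext P i _ fun n => ?_
    have h := hx n
    rw [extendMap_f (D.π n) e₀ hi, ← Category.assoc, ← Category.assoc,
      ← cancel_mono ((D.L n).extendXIso e₀ hi).hom] at h
    simpa using h
  · exact (D.M.isZero_extend_X e₀ j (not_exists.1 hj)).eq_of_tgt _ _

lemma lift_J (P : C) (j : ℤ) (s : ∀ n, P ⟶ (J D n).X j) (hs : ∀ n, s (n + 1) ≫ (tJ D n).f j = s n) :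
    ∃ x : P ⟶ (MJ D).X j, ∀ n, x ≫ (πJ D n).f j = s n := by
  by_cases hj : ∃ i, (e₀).f i = j
  · obtain ⟨i, hi⟩ := hj
    obtain ⟨x, hx⟩ := D.lift P i (fun n => s n ≫ ((D.L n).extendXIso e₀ hi).hom) fun n => by
      have h := hs n
      rw [extendMap_f (D.t n) e₀ hi] at h
      rw [← h]
      simp
    refine ⟨x ≫ (D.M.extendXIso e₀ hi).inv, fun n => ?_⟩
    rw [extendMap_f (D.π n) e₀ hi]
    simp only [Category.assoc, Iso.inv_hom_id_assoc]
    rw [reassoc_of% (hx n)]
    simp
  · exact ⟨0, fun n => ((D.L n).isZero_extend_X e₀ j (not_exists.1 hj)).eq_of_tgt _ _⟩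

variable [HasProductsOfShape ℕ C]

/-- Identity minus shift. -/
noncomputable def diff : prodCx (J D) ⟶ prodCx (J D) :=
  liftCx fun n => projCx (J D) n - projCx (J D) (n + 1) ≫ tJ D n

lemma diff_π (n : ℕ) :
    diff D ≫ projCx (J D) n = projCx (J D) n - projCx (J D) (n + 1) ≫ tJ D n :=
  liftCx_π _ n

/-- The sequence defining the derived limit. -/
noncomputable def seq : ShortComplex (CochainComplex C ℤ) :=
  ShortComplex.mk (liftCx fun n => πJ D n) (diff D) (hom_ext_prodCx _ _ fun n => by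
    rw [Category.assoc, diff_π, Preadditive.comp_sub, ← Category.assoc, liftCx_π, liftCx_π,
      ← extendMap_comp, D.comp, sub_self, zero_comp])

lemma exists_section_diff (j : ℤ) :
    ∃ σ : (prodCx (J D)).X j ⟶ (prodCx (J D)).X j, σ ≫ (diff D).f j = 𝟙 _ := by
  choose s hs using fun n => split_J D n j
  let c : ∀ n, (prodCx (J D)).X j ⟶ (J D n).X j := fun n =>
    Nat.rec (motive := fun n => (prodCx (J D)).X j ⟶ (J D n).X j) 0
      (fun n c => (c - (projCx (J D) n).f j) ≫ s n) n
  let σ : (prodCx (J D)).X j ⟶ (prodCx (J D)).X j :=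
    limit.lift (Discrete.functor fun n => (J D n).X j) (Fan.mk _ c)
  have h : ∀ n, σ ≫ (projCx (J D) n).f j = c n := fun n => limit.lift_π (Fan.mk _ c) ⟨n⟩
  refine ⟨σ, prodCx_hom_ext _ _ fun n => ?_⟩
  have hd : (diff D).f j ≫ (projCx (J D) n).f j =
      (projCx (J D) n).f j - (projCx (J D) (n + 1)).f j ≫ (tJ D n).f j := by
    rw [← comp_f, diff_π]
    rfl
  refine (Category.assoc _ _ _).trans ((congrArg (σ ≫ ·) hd).trans ?_)
  rw [Preadditive.comp_sub, h, ← Category.assoc, h, Category.id_comp]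
  change c n - ((c n - (projCx (J D) n).f j) ≫ s n) ≫ (tJ D n).f j = _
  rw [Category.assoc, hs, Category.comp_id, sub_sub_cancel]

lemma shortExact_seq : (seq D).ShortExact := by
  refine shortExact_of_degreewise_shortExact _ fun j => ?_
  obtain ⟨σ, hσ⟩ := exists_section_diff D j
  have hl : ∀ n, ((seq D).f).f j ≫ (projCx (J D) n).f j = (πJ D n).f j := fun n =>
    congrArg (fun z : MJ D ⟶ J D n => z.f j) (liftCx_π (fun n => πJ D n) n)
  have hmono : Mono ((seq D).f.f j) := Preadditive.mono_of_cancel_zero _ fun {P} x hx =>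
    ext_J D P j x fun n => (congrArg (x ≫ ·) (hl n).symm).trans
      ((Category.assoc _ _ _).symm.trans ((congrArg (· ≫ _) hx).trans zero_comp))
  haveI : Mono ((seq D).map (eval C (ComplexShape.up ℤ) j)).f := hmono
  refine ShortComplex.ShortExact.mk' ?_ hmono (SplitEpi.mk σ hσ).epi
  refine ShortComplex.exact_of_f_is_kernel _ (KernelFork.IsLimit.ofι' _ _ fun {P} y hy => ?_)
  have hy' : ∀ n, (y ≫ (projCx (J D) (n + 1)).f j) ≫ (tJ D n).f j = y ≫ (projCx (J D) n).f j :=
    fun n => by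
      let y' : P ⟶ (prodCx (J D)).X j := y
      have hd : (diff D).f j ≫ (projCx (J D) n).f j =
          (projCx (J D) n).f j - (projCx (J D) (n + 1)).f j ≫ (tJ D n).f j := by
        rw [← comp_f, diff_π]
        rfl
      have h : (y' ≫ (diff D).f j) ≫ (projCx (J D) n).f j = 0 := by
        rw [show y' ≫ (diff D).f j = 0 from hy, zero_comp]
      replace h := (congrArg (y' ≫ ·) hd).symm.trans ((Category.assoc _ _ _).symm.trans h)
      rw [Preadditive.comp_sub, sub_eq_zero] at h
      exact (Category.assoc _ _ _).trans h.symm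
  have hx := lift_J D P j (fun n => y ≫ (projCx (J D) n).f j) hy'
  exact ⟨hx.choose, prodCx_hom_ext _ _ fun n =>
    (Category.assoc _ _ _).trans ((congrArg (hx.choose ≫ ·) (hl n)).trans (hx.choose_spec n))⟩

variable [IsGrothendieckAbelian.{v} C] [HasDerivedCategory.{w} C]

open DerivedCategory in
include hM hMi hp in
/-- The limit is a derived limit of the tower. -/
theorem isRlim [HasProduct fun n => (singleFunctor C 0).obj (F n)] :
    DCoh.IsRlim (fun n => (singleFunctor C 0).obj (F n)) (fun n => (singleFunctor C 0).map (f n))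
      ((singleFunctor C 0).obj Y) := by
  let RM : InjectiveResolution Y := mkRes D.M ιM hM hMi
  let R : ∀ n, InjectiveResolution (F n) := fun n => mkRes (D.L n) (D.ι n) (D.res n) (D.inj n)
  have hK : ∀ n, (J D n).IsKInjective := fun n =>
    CochainComplex.isKInjective_of_injective (R n).cochainComplex 0
  obtain ⟨hlim⟩ := isLimit_prodFan_of_isKInjective (J D) hK
  have hR : ∀ n, IsIso (Q.map (R n).ι') := fun n =>
    (isIso_Q_map_iff_quasiIso _ _).2 (inferInstanceAs (QuasiIso (R n).ι'))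
  have hRM : IsIso (Q.map RM.ι') :=
    (isIso_Q_map_iff_quasiIso _ _).2 (inferInstanceAs (QuasiIso RM.ι'))
  let e : ∀ n, (singleFunctor C 0).obj (F n) ≅ Q.obj (J D n) := fun n =>
    (singleFunctorIsoCompQ C 0).app (F n) ≪≫ @asIso _ _ _ _ (Q.map (R n).ι') (hR n)
  let eY : (singleFunctor C 0).obj Y ≅ Q.obj (MJ D) :=
    (singleFunctorIsoCompQ C 0).app Y ≪≫ @asIso _ _ _ _ (Q.map RM.ι') hRM
  have he : ∀ n, (singleFunctor C 0).map (f n) ≫ (e n).hom = (e (n + 1)).hom ≫ Q.map (tJ D n) := by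
    intro n
    have h : (R (n + 1)).ι' ≫ tJ D n = (CochainComplex.singleFunctor C 0).map (f n) ≫ (R n).ι' :=
      (mkResHom (D.ι (n + 1)) (D.ι n) (D.res (n + 1)) (D.inj (n + 1)) (D.res n) (D.inj n) (D.t n)
        (f n) (D.comm n)).ι'_comp_hom'
    have h' := (singleFunctorIsoCompQ C 0).hom.naturality (f n)
    refine (Category.assoc _ _ _).symm.trans ((congrArg (· ≫ _) h').trans ?_)
    refine (Category.assoc _ _ _).trans (Eq.trans ?_ (Category.assoc _ _ _).symm)
    exact congrArg (_ ≫ ·) ((Q.map_comp _ _).symm.trans ((congrArg Q.map h.symm).trans (Q.map_comp _ _)))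
  refine isRlim_of_triangle (K := fun n => (singleFunctor C 0).obj (F n))
    (K' := fun n => Q.obj (J D n)) e (fun n => (singleFunctor C 0).map (f n))
    (fun n => Q.map (tJ D n)) he (prodFan (J D)) hlim eY
    (triangleOfSES (shortExact_seq D)).mor₁ (Q.map (diff D)) (triangleOfSES (shortExact_seq D)).mor₃
    (triangleOfSES_distinguished (shortExact_seq D)) fun n => ?_
  exact (Q.map_comp _ _).symm.trans ((congrArg Q.map (diff_π D n)).trans
    ((Q.map_sub).trans (congrArg (_ - ·) (Q.map_comp _ _))))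

end Tower

end Groth.Agent.QCohTower
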